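import Groth.Agent.H69.HomStage.Main
import Groth.Agent.H47.ModStage
import Groth.Agent.Lib.QCoh.Closure
import Groth.Agent.Lib.CohBasics.Affine
import Groth.Agent.Lib.DescAlg.FPPush
import Groth.Agent.Lib.Modules.SupportOps
import Groth.Agent.H22.StrictTransform.Module
import Groth.Agent.H47.FlatLimit

/-!
# Eventual vanishing, isomorphisms, right exactness and factorisations along limits
-/

set_option autoImplicit false
set_option linter.style.haveILetI false
set_option backward.isDefEq.respectTransparency false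
universe u

open CategoryTheory CategoryTheory.Limits AlgebraicGeometry Opposite TopologicalSpace
open Groth.Agent.Lib Groth.Agent.Lib.Flat55 Groth.Agent.H47 Groth.Agent.Lib.DescAlg.PbSec

namespace Groth.Agent.H69.HomStage.Cor

theorem isFT_of_isFP {X : Scheme.{u}} {M : X.Modules} (h : CohB1.IsFP M) : CohB1.IsFT M := by
  have : SheafOfModules.IsFinitePresentation (R := X.ringCatSheaf) M := h
  infer_instance

/-- The kernel of a surjection from a finite type to a finitely presented module is of finite type. -/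
theorem isFT_kernel {X : Scheme.{u}} {F G : X.Modules} [F.IsQuasicoherent] [G.IsQuasicoherent]
    (hF : CohB1.IsFT F) (hG : CohB1.IsFP G) (p : F ⟶ G) [Epi p] : CohB1.IsFT (kernel p) := by
  haveI : SheafOfModules.IsFiniteType (R := X.ringCatSheaf) F := hF
  haveI := QCoh.Closure.isQCoh_kernel p
  refine CohBasics.Affine.isFiniteType_of_finite_sections fun x => ?_
  obtain ⟨U, hU, hx, -⟩ := exists_isAffineOpen_mem_and_subset (show x ∈ (⊤ : X.Opens) from trivial)
  haveI : Module.Finite Γ(X, U) Γ(F, U) := CohBasics.Affine.finite_sections hU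
  haveI := DescAlg.FPPush.finitePresentation_sections hU G hG
  let φ : Γ(F, U) →ₗ[Γ(X, U)] Γ(G, U) :=
    { toFun := p.app U
      map_add' := map_add _
      map_smul' := fun a b => Scheme.Modules.Hom.app_smul p a b }
  let ι : Γ(kernel p, U) →ₗ[Γ(X, U)] Γ(F, U) :=
    { toFun := (kernel.ι p).app U
      map_add' := map_add _
      map_smul' := fun a b => Scheme.Modules.Hom.app_smul _ a b }
  let S := ShortComplex.mk (kernel.ι p) p (kernel.condition p)
  have hι : Function.Injective ι := QCoh.Closure.sections_injective_of_mono (kernel.ι p) U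
  have hr : LinearMap.range ι = LinearMap.ker φ := by
    refine le_antisymm ?_ fun m hm => ?_
    · rintro _ ⟨s, rfl⟩
      exact QCoh.Closure.sections_comp (S := S) U s
    · obtain ⟨s, hs⟩ := QCoh.Closure.sections_exact (S := S)
        (S.exact_of_f_is_kernel (kernelIsKernel p)) U m hm
      exact ⟨s, hs⟩
  haveI : Module.Finite Γ(X, U) (LinearMap.range ι) := by
    rw [hr]
    exact Module.Finite.iff_fg.2
      (Module.FinitePresentation.fg_ker φ (QCoh.Closure.sections_surjective_of_epi p hU))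
  exact ⟨U, hU, hx, Module.Finite.equiv (LinearEquiv.ofInjective ι hι).symm⟩

section Abelian

variable {A B : Type*} [Category A] [Category B] [Abelian A] [Abelian B] (L : A ⥤ B)
  [L.PreservesZeroMorphisms] [L.IsLeftAdjoint]

/-- The image of the cokernel is a cokernel. -/
noncomputable def mapCokernel {X Y : A} (f : X ⟶ Y) :
    IsColimit (CokernelCofork.map (CokernelCofork.ofπ (cokernel.π f) (cokernel.condition f)) L) :=
  CokernelCofork.mapIsColimit _ (cokernelIsCokernel f) L

/-- Right exactness after applying a left adjoint is the invertibility of the image of the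
comparison map with the cokernel. -/
theorem rightExact_iff (S : ShortComplex A) :
    ((S.map L).Exact ∧ Epi (S.map L).g) ↔ IsIso (L.map (cokernel.desc S.f S.g S.zero)) := by
  let S' := ShortComplex.mk S.f (cokernel.π S.f) (cokernel.condition S.f)
  have h' := ((S'.map L).exact_and_epi_g_iff_g_is_cokernel).2 ⟨mapCokernel L S.f⟩
  have hfac : (S'.map L).g ≫ L.map (cokernel.desc S.f S.g S.zero) = (S.map L).g := by
    show L.map (cokernel.π S.f) ≫ _ = L.map S.g
    rw [← L.map_comp, cokernel.π_desc]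
  refine ⟨fun h => ?_, fun h => ?_⟩
  · obtain ⟨hc⟩ := ((S.map L).exact_and_epi_g_iff_g_is_cokernel).1 h
    obtain ⟨hc'⟩ := ((S'.map L).exact_and_epi_g_iff_g_is_cokernel).1 h'
    have e : L.map (cokernel.desc S.f S.g S.zero) = (hc'.coconePointUniqueUpToIso hc).hom := by
      haveI := h'.2
      rw [← cancel_epi (S'.map L).g, hfac]
      exact (hc'.comp_coconePointUniqueUpToIso_hom hc WalkingParallelPair.one).symm
    rw [e]
    infer_instance
  · exact (ShortComplex.exact_and_epi_g_iff_of_iso (S₁ := S'.map L) (S₂ := S.map L)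
      (ShortComplex.isoMk (Iso.refl _) (Iso.refl _) (asIso (L.map (cokernel.desc S.f S.g S.zero)))
        (by simp [S']) (by
          show 𝟙 _ ≫ (S.map L).g = (S'.map L).g ≫ _
          exact (Category.id_comp _).trans hfac.symm))).1 h'

/-- Factoring through the image of an epimorphism. -/
theorem factors_iff {F G₁ G₂ : A} (p₁ : F ⟶ G₁) (p₂ : F ⟶ G₂) [Epi p₁] :
    (∃ k, L.map p₁ ≫ k = L.map p₂) ↔ L.map (kernel.ι p₁ ≫ p₂) = 0 := by
  refine ⟨fun ⟨k, hk⟩ => by rw [L.map_comp, ← hk, ← Category.assoc, ← L.map_comp, kernel.condition,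
    Functor.map_zero, zero_comp], fun h => ?_⟩
  let h1 := CokernelCofork.mapIsColimit (CokernelCofork.ofπ p₁ (kernel.condition p₁))
    (Abelian.epiIsCokernelOfKernel _ (limit.isLimit _)) L
  obtain ⟨k, hk⟩ := CokernelCofork.IsColimit.desc' h1 (L.map p₂) (by rw [← L.map_comp, h])
  exact ⟨k, hk⟩

end Abelian

variable {I : Type u} [SmallCategory I] [IsCofiltered I] {D : I ⥤ Scheme.{u}} {c : Cone D}
  [∀ (i j : I) (f : i ⟶ j), IsAffineHom (D.map f)] (i₀ : I)

theorem zero_pullback {X Y : Scheme.{u}} (g : Y ⟶ X) {A B : X.Modules} (w : A ⟶ B)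
    (h : FlatFunLimit.zeroHom _ w) : FlatFunLimit.zeroHom _ ((Scheme.Modules.pullback g).map w) := by
  have h' : w = 0 := h
  subst h'
  exact Functor.map_zero _ _ _

/-- A homomorphism vanishing at the limit vanishes at a stage. -/
theorem zero_iff (hc : IsLimit c) [CompactSpace (D.obj i₀)] {F₀ G₀ : (D.obj i₀).Modules}
    [F₀.IsQuasicoherent] [G₀.IsQuasicoherent] (hF : CohB1.IsFT F₀) (f₀ : F₀ ⟶ G₀) :
    (Scheme.Modules.pullback (c.π.app i₀)).map f₀ = 0 ↔
      ∃ (j : I) (φ : j ⟶ i₀), (Scheme.Modules.pullback (D.map φ)).map f₀ = 0 := by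
  let Q : ∀ Z : Scheme.{u}, MorphismProperty Z.Modules := fun Z => FlatFunLimit.zeroHom _
  haveI : ∀ Z, (Q Z).RespectsIso := fun Z => inferInstanceAs (FlatFunLimit.zeroHom _).RespectsIso
  refine ⟨fun h => ModStage.exists_stage_local hc i₀
    (fun T => Q _ ((Scheme.Modules.pullback T.hom).map f₀))
    (fun T T₀ g h => (ModStage.pullback_iff f₀ g.left T₀.hom T.hom (Over.w g) _).1 (zero_pullback _ _ h))
    (fun T κ Ti g hopen hsurj h => FlatFunSheaf.eq_zero_of_pullback (fun k => (g k).left)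
      (fun k => have := hopen k; inferInstance) hsurj _
      fun k => (ModStage.pullback_iff f₀ (g k).left T.hom (Ti k).hom (Over.w (g k)) (Q _)).2 (h k))
    (fun J _ _ E e hlim hE he h => ?_) h, fun ⟨j, φ, h⟩ =>
      (ModStage.pullback_iff f₀ (c.π.app j) (D.map φ) (c.π.app i₀) (c.w φ) (Q _)).1 (zero_pullback _ _ h)⟩
  haveI := hE
  haveI := he
  obtain ⟨j, hj⟩ := FlatFunLimit.exists_stage_zero (f := 𝟙 (D.obj i₀)) hlim hF f₀
    ((ModStage.id_iff f₀ e.pt Q zero_pullback).2 h)
  exact ⟨j, (ModStage.id_iff f₀ (E.obj j) Q zero_pullback).1 hj⟩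

/-- The canonical identification of the pullback to the limit of a stage. -/
noncomputable abbrev trπ {j : I} (φ : j ⟶ i₀) :
    Scheme.Modules.pullback (D.map φ) ⋙ Scheme.Modules.pullback (c.π.app j) ≅
      Scheme.Modules.pullback (c.π.app i₀) :=
  Scheme.Modules.pullbackComp (c.π.app j) (D.map φ) ≪≫ Scheme.Modules.pullbackCongr (c.w φ)

/-- Transport between the stages. -/
noncomputable abbrev trD {j k : I} (φ : j ⟶ i₀) (ψ : k ⟶ j) :
    Scheme.Modules.pullback (D.map φ) ⋙ Scheme.Modules.pullback (D.map ψ) ≅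
      Scheme.Modules.pullback (D.map (ψ ≫ φ)) :=
  Scheme.Modules.pullbackComp (D.map ψ) (D.map φ) ≪≫ Scheme.Modules.pullbackCongr (D.map_comp ψ φ).symm

/-- Right exactness at the limit is right exactness at some stage. -/
theorem rightExact_stage (hc : IsLimit c) [CompactSpace (D.obj i₀)] {F₀ G₀ H₀ : (D.obj i₀).Modules}
    [F₀.IsQuasicoherent] [G₀.IsQuasicoherent] [H₀.IsQuasicoherent] (hF : CohB1.IsFT F₀)
    (hG : CohB1.IsFT G₀) (hH : CohB1.IsFP H₀) (f₀ : F₀ ⟶ G₀) (g₀ : G₀ ⟶ H₀)
    (w : (Scheme.Modules.pullback (c.π.app i₀)).map f₀ ≫ (Scheme.Modules.pullback (c.π.app i₀)).map g₀ = 0)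
    (h : (ShortComplex.mk _ _ w).Exact ∧ Epi ((Scheme.Modules.pullback (c.π.app i₀)).map g₀)) :
    ∃ (j : I) (φ : j ⟶ i₀)
      (w : (Scheme.Modules.pullback (D.map φ)).map f₀ ≫ (Scheme.Modules.pullback (D.map φ)).map g₀ = 0),
      (ShortComplex.mk _ _ w).Exact ∧ Epi ((Scheme.Modules.pullback (D.map φ)).map g₀) := by
  haveI : ∀ {i j : I} (f : i ⟶ j), IsAffineHom (D.map f) := fun f => inferInstance
  obtain ⟨j, φ, hz⟩ := (zero_iff i₀ hc hF (f₀ ≫ g₀)).1 (by rw [Functor.map_comp, w])
  rw [Functor.map_comp] at hz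
  let S : ShortComplex (D.obj j).Modules := ShortComplex.mk _ _ hz
  haveI : S.X₁.IsQuasicoherent := QCoh.Pullback.isQCoh_pullback _ F₀
  haveI : S.X₂.IsQuasicoherent := QCoh.Pullback.isQCoh_pullback _ G₀
  haveI : S.X₃.IsQuasicoherent := QCoh.Pullback.isQCoh_pullback _ H₀
  haveI := QCoh.Closure.isQCoh_cokernel S.f
  haveI : CompactSpace (D.obj j) := QuasiCompact.compactSpace_of_compactSpace (D.map φ)
  have hC : CohB1.IsFT (cokernel S.f) := by
    haveI : SheafOfModules.IsFiniteType (R := (D.obj j).ringCatSheaf) S.X₂ := by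
      haveI : SheafOfModules.IsFiniteType (R := (D.obj i₀).ringCatSheaf) G₀ := hG
      exact Modules.SupportOps.isFT_pullback _ G₀
    exact H22.StrictTransform.isFT_of_epi (cokernel.π S.f)
  have h1 : IsIso ((Scheme.Modules.pullback (c.π.app j)).map (cokernel.desc S.f S.g S.zero)) :=
    (rightExact_iff _ S).1 ((ShortComplex.exact_and_epi_g_iff_of_iso
      (S₁ := S.map (Scheme.Modules.pullback (c.π.app j))) (S₂ := ShortComplex.mk _ _ w)
      (ShortComplex.isoMk ((trπ i₀ φ).app F₀) ((trπ i₀ φ).app G₀) ((trπ i₀ φ).app H₀)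
        ((trπ i₀ φ).hom.naturality f₀).symm ((trπ i₀ φ).hom.naturality g₀).symm)).2 h)
  obtain ⟨k, ψ, hk⟩ := (ModStage.isIso_iff j (cokernel.desc S.f S.g S.zero) hc hC
    (FlatLimit.isFP_pullback _ H₀ hH)).1 h1
  have h2 := (rightExact_iff (Scheme.Modules.pullback (D.map ψ)) S).2 hk
  have w' : (Scheme.Modules.pullback (D.map (ψ ≫ φ))).map f₀ ≫
      (Scheme.Modules.pullback (D.map (ψ ≫ φ))).map g₀ = 0 := by
    rw [← Functor.map_comp, ← FlatFunSheaf.map_map_eq_zero_iff (trD i₀ φ ψ), Functor.map_comp, hz,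
      Functor.map_zero]
  exact ⟨k, ψ ≫ φ, w', (ShortComplex.exact_and_epi_g_iff_of_iso
    (S₁ := S.map (Scheme.Modules.pullback (D.map ψ))) (S₂ := ShortComplex.mk _ _ w')
    (ShortComplex.isoMk ((trD i₀ φ ψ).app F₀) ((trD i₀ φ ψ).app G₀) ((trD i₀ φ ψ).app H₀)
      ((trD i₀ φ ψ).hom.naturality f₀).symm ((trD i₀ φ ψ).hom.naturality g₀).symm)).1 h2⟩

omit [IsCofiltered I] [∀ (i j : I) (f : i ⟶ j), IsAffineHom (D.map f)] in
/-- Right exactness at a stage passes to the limit. -/
theorem rightExact_limit {F₀ G₀ H₀ : (D.obj i₀).Modules} (f₀ : F₀ ⟶ G₀) (g₀ : G₀ ⟶ H₀) {j : I}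
    (φ : j ⟶ i₀)
    (w : (Scheme.Modules.pullback (D.map φ)).map f₀ ≫ (Scheme.Modules.pullback (D.map φ)).map g₀ = 0)
    (h : (ShortComplex.mk _ _ w).Exact ∧ Epi ((Scheme.Modules.pullback (D.map φ)).map g₀)) :
    ∃ w : (Scheme.Modules.pullback (c.π.app i₀)).map f₀ ≫ (Scheme.Modules.pullback (c.π.app i₀)).map g₀ = 0,
      (ShortComplex.mk _ _ w).Exact ∧ Epi ((Scheme.Modules.pullback (c.π.app i₀)).map g₀) := by
  let S : ShortComplex (D.obj j).Modules := ShortComplex.mk _ _ w
  obtain ⟨hc'⟩ := (S.exact_and_epi_g_iff_g_is_cokernel).1 h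
  have h2 := ((S.map (Scheme.Modules.pullback (c.π.app j))).exact_and_epi_g_iff_g_is_cokernel).2
    ⟨CokernelCofork.mapIsColimit _ hc' (Scheme.Modules.pullback (c.π.app j))⟩
  have w' : (Scheme.Modules.pullback (c.π.app i₀)).map f₀ ≫
      (Scheme.Modules.pullback (c.π.app i₀)).map g₀ = 0 := by
    rw [← Functor.map_comp, ← FlatFunSheaf.map_map_eq_zero_iff (trπ i₀ φ), Functor.map_comp, w,
      Functor.map_zero]
  exact ⟨w', (ShortComplex.exact_and_epi_g_iff_of_iso
    (S₁ := S.map (Scheme.Modules.pullback (c.π.app j))) (S₂ := ShortComplex.mk _ _ w')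
    (ShortComplex.isoMk ((trπ i₀ φ).app F₀) ((trπ i₀ φ).app G₀) ((trπ i₀ φ).app H₀)
      ((trπ i₀ φ).hom.naturality f₀).symm ((trπ i₀ φ).hom.naturality g₀).symm)).1 h2⟩

end Groth.Agent.H69.HomStage.Cor
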