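import Groth.Agent.H69.HomStage.Cor
import Groth.Agent.Lib.LimTop.Affine
import Groth.Agent.Lib.CohDelta.BC.Flat
import Mathlib.Algebra.Homology.ShortComplex.Abelian
import Mathlib.Algebra.Homology.ShortComplex.PreservesHomology

/-!
# Exactness along a limit with flat transition maps
-/

set_option autoImplicit false
set_option linter.style.haveILetI false
set_option backward.isDefEq.respectTransparency false
universe u

open CategoryTheory CategoryTheory.Limits AlgebraicGeometry Opposite
open Groth.Agent.Lib Groth.Agent.Lib.Flat55 Groth.Agent.H47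

namespace Groth.Agent.H69.HomStage.Exact

variable {I : Type u} [SmallCategory I] [IsCofiltered I] {D : I ⥤ Scheme.{u}} {c : Cone D}
  [∀ (i j : I) (f : i ⟶ j), IsAffineHom (D.map f)]

/-- A finite type module vanishing on the limit vanishes at a stage. -/
theorem isZero_stage (hc : IsLimit c) (i : I) [CompactSpace (D.obj i)] {H : (D.obj i).Modules}
    [H.IsQuasicoherent] (hH : CohB1.IsFT H)
    (h : IsZero ((Scheme.Modules.pullback (c.π.app i)).obj H)) :
    ∃ (j : I) (φ : j ⟶ i), IsZero ((Scheme.Modules.pullback (D.map φ)).obj H) := by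
  haveI : (FlatLimit.Z H).IsQuasicoherent := QCoh.Closure.isQCoh_cokernel _
  have hz : IsZero (FlatLimit.Z H) := FlatLimit.isZero_Z H
  let u0 : FlatLimit.Z H ⟶ H := 0
  obtain ⟨j, φ, hj⟩ := (ModStage.epi_iff i u0 hc hH).1 (h.epi _)
  haveI := hj
  refine ⟨j, φ, ?_⟩
  have h0 : (Scheme.Modules.pullback (D.map φ)).map u0 = 0 :=
    ((Scheme.Modules.pullback (D.map φ)).map_isZero hz).eq_of_src _ _
  rw [IsZero.iff_id_eq_zero, ← cancel_epi ((Scheme.Modules.pullback (D.map φ)).map u0), h0,
    zero_comp, zero_comp]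

omit [IsCofiltered I] [∀ (i j : I) (f : i ⟶ j), IsAffineHom (D.map f)] in
theorem exact_map_of_flat {X Y : Scheme.{u}} (g : Y ⟶ X) [Flat g] (S : ShortComplex X.Modules) :
    Nonempty ((S.map (Scheme.Modules.pullback g)).homology ≅ (Scheme.Modules.pullback g).obj S.homology) := by
  haveI := CohDelta.BC.Flat.preservesFiniteLimits_pullback g
  exact ⟨S.mapHomologyIso (Scheme.Modules.pullback g)⟩

theorem exact_iff_stage (hc : IsLimit c) (i₀ : I) [CompactSpace (D.obj i₀)]
    (hfl : ∀ (i j : I) (φ : i ⟶ j), Flat (D.map φ))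
    {F₀ G₀ H₀ : (D.obj i₀).Modules} [F₀.IsQuasicoherent] [G₀.IsQuasicoherent] [H₀.IsQuasicoherent]
    (f₀ : F₀ ⟶ G₀) (g₀ : G₀ ⟶ H₀)
    (hIm : CohB1.IsFT (Limits.image f₀)) (hKer : CohB1.IsFT (Limits.kernel g₀)) :
    (∃ w : (Scheme.Modules.pullback (c.π.app i₀)).map f₀ ≫ (Scheme.Modules.pullback (c.π.app i₀)).map g₀ = 0,
      (ShortComplex.mk _ _ w).Exact) ↔
      ∃ (j : I) (φ : j ⟶ i₀) (w : (Scheme.Modules.pullback (D.map φ)).map f₀ ≫
        (Scheme.Modules.pullback (D.map φ)).map g₀ = 0), (ShortComplex.mk _ _ w).Exact := by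
  haveI : ∀ {i j : I} (f : i ⟶ j), IsAffineHom (D.map f) := fun f => inferInstance
  have hπ : ∀ i, Flat (c.π.app i) := fun i => LimTop.Affine.flat_π hc i fun j φ => hfl j i φ
  constructor
  · rintro ⟨w, hw⟩
    haveI : (Limits.image f₀).IsQuasicoherent :=
      (SheafOfModules.isQuasicoherent.{u} (D.obj i₀).ringCatSheaf).prop_of_iso
        (Abelian.imageIsoImage f₀) (by
          haveI := QCoh.Closure.isQCoh_cokernel f₀
          exact QCoh.Closure.isQCoh_kernel (cokernel.π f₀))
    have hz0 : (Scheme.Modules.pullback (c.π.app i₀)).map (Limits.image.ι f₀ ≫ g₀) = 0 := by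
      rw [← cancel_epi ((Scheme.Modules.pullback (c.π.app i₀)).map (factorThruImage f₀)), comp_zero,
        ← Functor.map_comp, ← Category.assoc, image.fac, Functor.map_comp, w]
    obtain ⟨j, φ, hz⟩ := (Cor.zero_iff i₀ hc hIm (Limits.image.ι f₀ ≫ g₀)).1 hz0
    have hw' : (Scheme.Modules.pullback (D.map φ)).map f₀ ≫ (Scheme.Modules.pullback (D.map φ)).map g₀ = 0 := by
      rw [← Functor.map_comp, ← image.fac f₀, Category.assoc, Functor.map_comp, hz, comp_zero]
    let S : ShortComplex (D.obj j).Modules := ShortComplex.mk _ _ hw'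
    haveI : S.X₁.IsQuasicoherent := QCoh.Pullback.isQCoh_pullback _ F₀
    haveI : S.X₂.IsQuasicoherent := QCoh.Pullback.isQCoh_pullback _ G₀
    haveI : S.X₃.IsQuasicoherent := QCoh.Pullback.isQCoh_pullback _ H₀
    haveI : CompactSpace (D.obj j) := QuasiCompact.compactSpace_of_compactSpace (D.map φ)
    haveI : (kernel g₀).IsQuasicoherent := QCoh.Closure.isQCoh_kernel g₀
    haveI := hfl j i₀ φ
    haveI := CohDelta.BC.Flat.preservesFiniteLimits_pullback (D.map φ)
    let e : (Scheme.Modules.pullback (D.map φ)).obj (kernel g₀) ≅ S.cycles :=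
      PreservesKernel.iso (Scheme.Modules.pullback (D.map φ)) g₀ ≪≫ S.cyclesIsoKernel.symm
    haveI : S.cycles.IsQuasicoherent :=
      (SheafOfModules.isQuasicoherent.{u} (D.obj j).ringCatSheaf).prop_of_iso e
        (QCoh.Pullback.isQCoh_pullback _ _)
    haveI : S.homology.IsQuasicoherent :=
      (SheafOfModules.isQuasicoherent.{u} (D.obj j).ringCatSheaf).prop_of_iso
        ((cokernelIsCokernel S.toCycles).coconePointUniqueUpToIso S.homologyIsCokernel)
        (QCoh.Closure.isQCoh_cokernel S.toCycles)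
    have hft : CohB1.IsFT S.homology := by
      haveI : SheafOfModules.IsFiniteType (R := (D.obj i₀).ringCatSheaf) (kernel g₀) := hKer
      haveI := QCoh.Pullback.isQCoh_pullback (D.map φ) (kernel g₀)
      haveI : SheafOfModules.IsFiniteType (R := (D.obj j).ringCatSheaf)
          ((Scheme.Modules.pullback (D.map φ)).obj (kernel g₀)) :=
        Modules.SupportOps.isFT_pullback (D.map φ) (kernel g₀)
      exact H22.StrictTransform.isFT_of_epi (e.hom ≫ S.homologyπ)
    haveI := hπ j
    have hlim : IsZero ((Scheme.Modules.pullback (c.π.app j)).obj S.homology) := by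
      refine IsZero.of_iso ?_ (exact_map_of_flat (c.π.app j) S).some.symm
      exact (ShortComplex.exact_iff_isZero_homology _).1 ((ShortComplex.exact_iff_of_iso
        (ShortComplex.isoMk (S₁ := S.map (Scheme.Modules.pullback (c.π.app j))) (S₂ := ShortComplex.mk _ _ w)
          ((Cor.trπ i₀ φ).app F₀) ((Cor.trπ i₀ φ).app G₀) ((Cor.trπ i₀ φ).app H₀)
          ((Cor.trπ i₀ φ).hom.naturality f₀).symm ((Cor.trπ i₀ φ).hom.naturality g₀).symm)).2 hw)
    obtain ⟨k, ψ, hk⟩ := isZero_stage hc j hft hlim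
    haveI := hfl k j ψ
    have hex : (S.map (Scheme.Modules.pullback (D.map ψ))).Exact :=
      (ShortComplex.exact_iff_isZero_homology _).2 (IsZero.of_iso hk (exact_map_of_flat (D.map ψ) S).some)
    have w' : (Scheme.Modules.pullback (D.map (ψ ≫ φ))).map f₀ ≫
        (Scheme.Modules.pullback (D.map (ψ ≫ φ))).map g₀ = 0 := by
      rw [← Functor.map_comp, ← FlatFunSheaf.map_map_eq_zero_iff (Cor.trD i₀ φ ψ), Functor.map_comp, hw',
        Functor.map_zero]
    exact ⟨k, ψ ≫ φ, w', (ShortComplex.exact_iff_of_iso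
      (ShortComplex.isoMk (S₁ := S.map (Scheme.Modules.pullback (D.map ψ))) (S₂ := ShortComplex.mk _ _ w')
        ((Cor.trD i₀ φ ψ).app F₀) ((Cor.trD i₀ φ ψ).app G₀) ((Cor.trD i₀ φ ψ).app H₀)
        ((Cor.trD i₀ φ ψ).hom.naturality f₀).symm ((Cor.trD i₀ φ ψ).hom.naturality g₀).symm)).1 hex⟩
  · rintro ⟨j, φ, w, hw⟩
    let S : ShortComplex (D.obj j).Modules := ShortComplex.mk _ _ w
    haveI := hπ j
    haveI := CohDelta.BC.Flat.preservesFiniteLimits_pullback (c.π.app j)
    have hex : (S.map (Scheme.Modules.pullback (c.π.app j))).Exact :=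
      (ShortComplex.exact_iff_isZero_homology _).2 (IsZero.of_iso
        ((Scheme.Modules.pullback (c.π.app j)).map_isZero ((ShortComplex.exact_iff_isZero_homology _).1 hw))
        (exact_map_of_flat (c.π.app j) S).some)
    have w' : (Scheme.Modules.pullback (c.π.app i₀)).map f₀ ≫
        (Scheme.Modules.pullback (c.π.app i₀)).map g₀ = 0 := by
      rw [← Functor.map_comp, ← FlatFunSheaf.map_map_eq_zero_iff (Cor.trπ i₀ φ), Functor.map_comp, w,
        Functor.map_zero]
    exact ⟨w', (ShortComplex.exact_iff_of_iso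
      (ShortComplex.isoMk (S₁ := S.map (Scheme.Modules.pullback (c.π.app j))) (S₂ := ShortComplex.mk _ _ w')
        ((Cor.trπ i₀ φ).app F₀) ((Cor.trπ i₀ φ).app G₀) ((Cor.trπ i₀ φ).app H₀)
        ((Cor.trπ i₀ φ).hom.naturality f₀).symm ((Cor.trπ i₀ φ).hom.naturality g₀).symm)).1 hex⟩

end Groth.Agent.H69.HomStage.Exact
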