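import Groth.Agent.H69.HomStage.Sec
import Groth.Agent.Lib.Modules.Stalk
import Groth.Agent.Lib.FPHom.QcCover
import Groth.Prelude.Def_CohB1

/-!
# Homomorphisms between inverse images along a limit come from a stage
-/

set_option autoImplicit false
set_option linter.style.haveILetI false
set_option linter.unusedSectionVars false
set_option backward.isDefEq.respectTransparency false
universe u

open CategoryTheory CategoryTheory.Limits AlgebraicGeometry Opposite TopologicalSpace
open Groth.Agent.Lib Groth.Agent.Lib.Lim ZarCoh.FlatBC.PullbackSections Groth.Agent.Lib.DescAlg.PbSec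
open Groth.Agent.Lib.Modules

namespace Groth.Agent.H69.HomStage.Main

variable {I : Type u} [SmallCategory I] [IsCofiltered I] (D : I ⥤ Scheme.{u}) (c : Cone D)
  [∀ {i j : I} (f : i ⟶ j), IsAffineHom (D.map f)] (i₀ : I)
  (G : (D.obj i₀).Modules)

/-- The diagram of direct images of the inverse images of `G` on the stages. -/
noncomputable def dg : (Over i₀)ᵒᵖ ⥤ (D.obj i₀).Modules :=
  (Over.post D).op ⋙ Push.pp G

/-- The projection of the limit onto a stage, over the base. -/
abbrev proj (j : Over i₀) : Over.mk (c.π.app i₀) ⟶ (Over.post D).obj j :=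
  Over.homMk (c.π.app j.left) (c.w j.hom)

/-- The cocone with point the direct image of the inverse image of `G` on the limit. -/
noncomputable def cocone : Cocone (dg D i₀ G) where
  pt := Push.ppObj G (Over.mk (c.π.app i₀))
  ι :=
    { app := fun j => (Push.pp G).map (proj D c i₀ j.unop).op
      naturality := fun j k f => by
        show (Push.pp G).map ((Over.post D).map f.unop).op ≫ (Push.pp G).map (proj D c i₀ k.unop).op =
          (Push.pp G).map (proj D c i₀ j.unop).op ≫ 𝟙 _
        rw [Category.comp_id, ← (Push.pp G).map_comp, ← op_comp]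
        congr 2
        ext : 1
        exact c.w f.unop.left }

variable [G.IsQuasicoherent]

set_option maxHeartbeats 1000000 in
/-- The cocone is a colimit. -/
theorem isIso_desc (hc : IsLimit c) : IsIso (colimit.desc (dg D i₀ G) (cocone D c i₀ G)) := by
  set m := colimit.desc (dg D i₀ G) (cocone D c i₀ G) with hm
  have this : ∀ x, IsIso ((Stalk.stalkFunctor (D.obj i₀) x).map m) := by
    intro x
    let F := Stalk.stalkFunctor (D.obj i₀) x
    have hcol := isColimitOfPreserves (F ⋙ forget AddCommGrpCat.{u}) (colimit.isColimit (dg D i₀ G))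
    have hι : ∀ j, colimit.ι (dg D i₀ G) j ≫ m = (Push.pp G).map (proj D c i₀ j.unop).op :=
      fun j => colimit.ι_desc (cocone D c i₀ G) j
    -- the value of the comparison map on germs
    have hgerm : ∀ (j : (Over i₀)ᵒᵖ) (U : (D.obj i₀).Opens) (hx : x ∈ U)
        (t : Γ((Scheme.Modules.pullback (D.map j.unop.hom)).obj G, D.map j.unop.hom ⁻¹ᵁ U)),
        F.map m (F.map (colimit.ι (dg D i₀ G) j)
            (((dg D i₀ G).obj j).presheaf.germ U x hx t)) =
          (Push.ppObj G (Over.mk (c.π.app i₀))).presheaf.germ U x hx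
            (R (c.π.app j.unop.left) (c.w j.unop.hom) G
              (IdealDescend.preimage_le D c i₀ U j.unop) t) := by
      intro j U hx t
      rw [← ConcreteCategory.comp_apply, ← F.map_comp, hι]
      exact (TopCat.Presheaf.stalkFunctor_map_germ_apply U x hx
        ((Push.pp G).map (proj D c i₀ j.unop).op).mapPresheaf t).trans
          (congrArg _ (Push.ppMap_app G (proj D c i₀ j.unop) U t))
    rw [ConcreteCategory.isIso_iff_bijective]
    refine ⟨(injective_iff_map_eq_zero _).2 fun a ha => ?_, fun b => ?_⟩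
    · obtain ⟨j, a', rfl⟩ := Types.jointly_surjective _ hcol a
      obtain ⟨W, hxW, t, rfl⟩ := TopCat.Presheaf.exists_germ_eq ((dg D i₀ G).obj j).presheaf a'
      have h0 := (hgerm j W hxW t).symm.trans ha
      obtain ⟨W', hxW', i₁, i₂, h1⟩ := TopCat.Presheaf.germ_eq
        (Push.ppObj G (Over.mk (c.π.app i₀))).presheaf x hxW hxW _ 0 (h0.trans (map_zero _).symm)
      obtain ⟨U, hU, hxU, hUW⟩ := exists_isAffineOpen_mem_and_subset (U := W') hxW'
      have hle : U ≤ W := le_trans hUW i₁.le
      let t' := ((Scheme.Modules.pullback (D.map j.unop.hom)).obj G).presheaf.map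
        (homOfLE ((D.map j.unop.hom).preimage_mono hle)).op t
      have h2 : R (c.π.app j.unop.left) (c.w j.unop.hom) G
          (IdealDescend.preimage_le D c i₀ U j.unop) t' = 0 := by
        rw [R_map, ← map_R (c.π.app j.unop.left) (c.w j.unop.hom) G
          (IdealDescend.preimage_le D c i₀ W j.unop) ((c.π.app i₀).preimage_mono hle)]
        have h3 := congrArg
          ((Push.ppObj G (Over.mk (c.π.app i₀))).presheaf.map (homOfLE (show U ≤ W' from hUW)).op) h1
        rw [map_zero, map_zero, ← ConcreteCategory.comp_apply, ← Functor.map_comp] at h3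
        exact h3
      obtain ⟨k, f, hk⟩ := Sec.exists_R_eq_zero D c i₀ G hc hU j.unop t' h2
      have e0 : ((dg D i₀ G).obj j).presheaf.germ W x hxW t =
          ((dg D i₀ G).obj j).presheaf.germ U x hxU t' :=
        (TopCat.Presheaf.germ_res_apply ((dg D i₀ G).obj j).presheaf (homOfLE hle) x hxU t).symm
      have e1 : colimit.ι (dg D i₀ G) j = (dg D i₀ G).map f.op ≫ colimit.ι (dg D i₀ G) (op k) :=
        (colimit.w (dg D i₀ G) f.op).symm
      show F.map (colimit.ι (dg D i₀ G) j) _ = 0
      rw [e0, e1, F.map_comp, ConcreteCategory.comp_apply]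
      refine (congrArg _ ((TopCat.Presheaf.stalkFunctor_map_germ_apply U x hxU
        ((Push.pp G).map ((Over.post D).map f).op).mapPresheaf t').trans ?_)).trans (map_zero _)
      exact (congrArg _ ((Push.ppMap_app G ((Over.post D).map f) U t').trans hk)).trans (map_zero _)
    · obtain ⟨W, hxW, s, rfl⟩ := TopCat.Presheaf.exists_germ_eq
        (Push.ppObj G (Over.mk (c.π.app i₀))).presheaf b
      obtain ⟨U, hU, hxU, hUW⟩ := exists_isAffineOpen_mem_and_subset (U := W) hxW
      obtain ⟨j, t, ht⟩ := Sec.exists_R_eq D c i₀ G hc hU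
        ((Push.ppObj G (Over.mk (c.π.app i₀))).presheaf.map (homOfLE (show U ≤ W from hUW)).op s)
      refine ⟨F.map (colimit.ι (dg D i₀ G) (op j)) (((dg D i₀ G).obj (op j)).presheaf.germ U x hxU t), ?_⟩
      rw [hgerm, ht]
      exact TopCat.Presheaf.germ_res_apply _ _ x hxU s
  exact (Stalk.isIso_iff_stalk m).2 this

/-- **Surjectivity of `colim Hom(F_j, G_j) → Hom(F, G)`**. -/
theorem exists_conj_eq (hc : IsLimit c) [CompactSpace (D.obj i₀)] [QuasiSeparatedSpace (D.obj i₀)]
    {F : (D.obj i₀).Modules} (hF : CohB1.IsFP F)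
    (h : (Scheme.Modules.pullback (c.π.app i₀)).obj F ⟶ (Scheme.Modules.pullback (c.π.app i₀)).obj G) :
    ∃ (j : Over i₀) (hj : (Scheme.Modules.pullback (D.map j.hom)).obj F ⟶
        (Scheme.Modules.pullback (D.map j.hom)).obj G),
      conj F G (c.π.app j.left) (c.w j.hom) hj = h := by
  haveI : SheafOfModules.IsFinitePresentation (R := (D.obj i₀).ringCatSheaf) F := hF
  haveI := isIso_desc D c i₀ G hc
  let h' := (Scheme.Modules.pullbackPushforwardAdjunction (c.π.app i₀)).homEquiv _ _ h
  have hX : ∀ (ι : Type u) (V : ι → Opens (D.obj i₀)), iSup V = ⊤ →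
      ∃ (A : Type u) (_ : Finite A) (U : A → Opens (D.obj i₀)), iSup U = ⊤ ∧ (∀ a, ∃ i, U a ≤ V i) ∧
        ∀ a a', IsCompact ((U a ⊓ U a' : Opens (D.obj i₀)) : Set (D.obj i₀)) := by
    intro ι V hV
    have hloc : ∀ x : D.obj i₀, ∃ W : (D.obj i₀).Opens, IsAffineOpen W ∧ x ∈ W ∧ ∃ i, W ≤ V i := by
      intro x
      obtain ⟨i, hi⟩ := Opens.mem_iSup.1 (show x ∈ iSup V from hV ▸ trivial)
      obtain ⟨W, hW, hxW, hle⟩ := exists_isAffineOpen_mem_and_subset (U := V i) hi
      exact ⟨W, hW, hxW, i, hle⟩
    choose W hW hxW i hi using hloc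
    obtain ⟨s, hs⟩ := isCompact_univ.elim_finite_subcover (fun x => (W x : Set (D.obj i₀)))
      (fun x => (W x).2) (fun x _ => Set.mem_iUnion.2 ⟨x, hxW x⟩)
    refine ⟨↥s, inferInstance, fun a => W a.1, eq_top_iff.2 fun x _ => ?_, fun a => ⟨_, hi a.1⟩,
      fun a a' => ?_⟩
    · obtain ⟨y, hy, hxy⟩ := Set.mem_iUnion₂.1 (hs (Set.mem_univ x))
      exact Opens.mem_iSup.2 ⟨⟨y, hy⟩, hxy⟩
    · exact QuasiSeparatedSpace.inter_isCompact (W a.1 : Set (D.obj i₀)) (W a'.1) (W a.1).2
        (hW _).isCompact (W a'.1).2 (hW _).isCompact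
  haveI : PreservesColimit (dg D i₀ G) (coyoneda.obj (op F)) :=
    Lib.FPHom.Global.preservesColimit_coyoneda (O := (D.obj i₀).sheaf)
      (Lib.FPHom.QcCover.exists_qc_cover hX) F (dg D i₀ G)
  obtain ⟨j, g, hg⟩ := Types.jointly_surjective _
    (isColimitOfPreserves (coyoneda.obj (op F)) (colimit.isColimit (dg D i₀ G)))
    (h' ≫ inv (colimit.desc (dg D i₀ G) (cocone D c i₀ G)))
  refine ⟨j.unop,
    ((Scheme.Modules.pullbackPushforwardAdjunction (D.map j.unop.hom)).homEquiv F _).symm g, ?_⟩
  have h1 : g ≫ (Push.pp G).map (proj D c i₀ j.unop).op = h' := by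
    have := congrArg (fun e => e ≫ colimit.desc (dg D i₀ G) (cocone D c i₀ G)) hg
    simp only [Category.assoc, IsIso.inv_hom_id, Category.comp_id] at this
    rw [← this]
    show _ = (g ≫ colimit.ι _ j) ≫ _
    rw [Category.assoc]
    exact congrArg _ (colimit.ι_desc (cocone D c i₀ G) j).symm
  refine ((Scheme.Modules.pullbackPushforwardAdjunction (c.π.app i₀)).homEquiv F _).injective ?_
  refine (Push.homEquiv_conj G (proj D c i₀ j.unop) _).symm.trans ?_
  erw [Equiv.apply_symm_apply]
  exact h1

end Groth.Agent.H69.HomStage.Main
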