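import Groth.Agent.Lib.DescAlg.PbSecHom

/-!
# The direct images of the inverse images of a module, as a functor of the scheme over the base
-/

set_option autoImplicit false
set_option backward.isDefEq.respectTransparency false
set_option backward.isDefEq.respectTransparency.types false
universe u

open CategoryTheory CategoryTheory.Limits AlgebraicGeometry Opposite TopologicalSpace
open ZarCoh.FlatBC.PullbackSections Groth.Agent.Lib.DescAlg.PbSec

namespace Groth.Agent.H69.HomStage.Push

variable {X : Scheme.{u}} (G : X.Modules)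

lemma preimage_le {T T' : Over X} (g : T' ⟶ T) (U : X.Opens) :
    T'.hom ⁻¹ᵁ U ≤ g.left ⁻¹ᵁ (T.hom ⁻¹ᵁ U) := by
  rw [← Scheme.Hom.comp_preimage, Over.w g]

/-- `p_* p^* G`. -/
noncomputable abbrev ppObj (T : Over X) : X.Modules :=
  (Scheme.Modules.pushforward T.hom).obj ((Scheme.Modules.pullback T.hom).obj G)

/-- The transition `p_* p^* G ⟶ q_* q^* G` of `g : T' ⟶ T` over `X`. -/
noncomputable def ppMap {T T' : Over X} (g : T' ⟶ T) : ppObj G T ⟶ ppObj G T' :=
  (Scheme.Modules.pushforward T.hom).map (Rhom g.left (Over.w g) G) ≫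
    (Scheme.Modules.pushforwardComp g.left T.hom).hom.app _ ≫
      (Scheme.Modules.pushforwardCongr (Over.w g)).hom.app _

theorem ppMap_app {T T' : Over X} (g : T' ⟶ T) (U : X.Opens)
    (x : Γ((Scheme.Modules.pullback T.hom).obj G, T.hom ⁻¹ᵁ U)) :
    (ppMap G g).app U x = R g.left (Over.w g) G (preimage_le g U) x := by
  simp only [ppMap, Scheme.Modules.Hom.comp_app, ConcreteCategory.comp_apply]
  rfl

/-- The functor `(p : T ⟶ X) ↦ p_* p^* G`. -/
noncomputable def pp : (Over X)ᵒᵖ ⥤ X.Modules where
  obj T := ppObj G T.unop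
  map g := ppMap G g.unop
  map_id T := by
    refine Scheme.Modules.hom_ext _ _ fun U => ?_
    ext x
    rw [ppMap_app]
    exact (R_id G (W' := T.unop.hom ⁻¹ᵁ U) le_rfl x).trans
      (ConcreteCategory.congr_hom (((Scheme.Modules.pullback T.unop.hom).obj G).presheaf.map_id _) x)
  map_comp {T₁ T₂ T₃} g g' := by
    refine Scheme.Modules.hom_ext _ _ fun U => ?_
    ext x
    change (ppMap G (g ≫ g').unop).app U x = (ppMap G g'.unop).app U ((ppMap G g.unop).app U x)
    rw [ppMap_app, ppMap_app, ppMap_app]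
    exact (R_comp g.unop.left g'.unop.left _ (Over.w g.unop) (Over.w g'.unop) rfl G
      (preimage_le g.unop U) (preimage_le g'.unop U) x).symm

/-- The unit `G ⟶ p_* p^* G` is natural in `p`. -/
theorem unit_ppMap {T T' : Over X} (g : T' ⟶ T) :
    (Scheme.Modules.pullbackPushforwardAdjunction T.hom).unit.app G ≫ ppMap G g =
      (Scheme.Modules.pullbackPushforwardAdjunction T'.hom).unit.app G := by
  refine Scheme.Modules.hom_ext _ _ fun U => ?_
  ext m
  simp only [Scheme.Modules.Hom.comp_app, ConcreteCategory.comp_apply]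
  have key : ∀ {Y : Scheme.{u}} (p : Y ⟶ X), pbRes p G (le_refl (p ⁻¹ᵁ U)) m =
      ((Scheme.Modules.pullbackPushforwardAdjunction p).unit.app G).app U m := fun p =>
    ConcreteCategory.congr_hom (((Scheme.Modules.pullback p).obj G).presheaf.map_id _) _
  rw [← key]
  refine ((ppMap_app G g U _).trans ?_).trans (key T'.hom)
  rw [R_pbRes]

/-- The adjoint of `ψ ≫ (p_* p^* G ⟶ q_* q^* G)` is the pull back of the adjoint of `ψ`. -/
theorem homEquiv_conj {F : X.Modules} {T T' : Over X} (g : T' ⟶ T)
    (ψ : (Scheme.Modules.pullback T.hom).obj F ⟶ (Scheme.Modules.pullback T.hom).obj G) :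
    (Scheme.Modules.pullbackPushforwardAdjunction T.hom).homEquiv _ _ ψ ≫ ppMap G g =
      (Scheme.Modules.pullbackPushforwardAdjunction T'.hom).homEquiv _ _
        (conj F G g.left (Over.w g) ψ) := by
  refine Scheme.Modules.hom_ext _ _ fun U => ?_
  ext m
  have key : ∀ {Y : Scheme.{u}} (p : Y ⟶ X), pbRes p F (le_refl (p ⁻¹ᵁ U)) m =
      ((Scheme.Modules.pullbackPushforwardAdjunction p).unit.app F).app U m := fun p =>
    ConcreteCategory.congr_hom (((Scheme.Modules.pullback p).obj F).presheaf.map_id _) _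
  simp only [Adjunction.homEquiv_unit, Scheme.Modules.Hom.comp_app, ConcreteCategory.comp_apply,
    ppMap_app]
  show R g.left (Over.w g) G (preimage_le g U)
      (ψ.app (T.hom ⁻¹ᵁ U) (((Scheme.Modules.pullbackPushforwardAdjunction T.hom).unit.app F).app U m)) =
    (conj F G g.left (Over.w g) ψ).app (T'.hom ⁻¹ᵁ U)
      (((Scheme.Modules.pullbackPushforwardAdjunction T'.hom).unit.app F).app U m)
  rw [← key, ← key, R_app F G g.left (Over.w g) ψ, R_pbRes]

end Groth.Agent.H69.HomStage.Push
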