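import Groth.Agent.H69.HomStage.Cor
import Groth.Agent.H47.FPModel
import Groth.Agent.Lib.ZarCoh.FP

/-!
# Quotients of finite presentation descend
-/

set_option autoImplicit false
set_option linter.style.haveILetI false
set_option linter.unusedSectionVars false
set_option backward.isDefEq.respectTransparency false
universe u

open CategoryTheory CategoryTheory.Limits AlgebraicGeometry Opposite TopologicalSpace
open Groth.Agent.Lib ZarCoh.FlatBC.PullbackSections Groth.Agent.Lib.DescAlg.PbSec Groth.Agent.H47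

namespace Groth.Agent.H69.HomStage.Quot

theorem tr_hom_pbRes {X Y Z : Scheme.{u}} (g : Z ⟶ Y) {u : Y ⟶ X} {v : Z ⟶ X} (h : g ≫ u = v)
    (M : X.Modules) {U : X.Opens} {W : Y.Opens} {W' : Z.Opens} (eW : W ≤ u ⁻¹ᵁ U)
    (e : W' ≤ g ⁻¹ᵁ W) (e' : W' ≤ v ⁻¹ᵁ U) (m : Γ(M, U)) :
    (tr g h M).hom.app W' (pbRes g ((Scheme.Modules.pullback u).obj M) e (pbRes u M eW m)) =
      pbRes v M e' m := by
  rw [← R_eq, R_pbRes]

theorem tr_inv_pbRes {X Y Z : Scheme.{u}} (g : Z ⟶ Y) {u : Y ⟶ X} {v : Z ⟶ X} (h : g ≫ u = v)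
    (M : X.Modules) {U : X.Opens} {W : Y.Opens} {W' : Z.Opens} (eW : W ≤ u ⁻¹ᵁ U)
    (e : W' ≤ g ⁻¹ᵁ W) (e' : W' ≤ v ⁻¹ᵁ U) (m : Γ(M, U)) :
    (tr g h M).inv.app W' (pbRes v M e' m) =
      pbRes g ((Scheme.Modules.pullback u).obj M) e (pbRes u M eW m) := by
  refine (ConcreteCategory.bijective_of_isIso ((tr g h M).hom.app W')).1 ?_
  rw [tr_hom_pbRes g h M eW e e' m, ← ConcreteCategory.comp_apply, ← Scheme.Modules.Hom.comp_app,
    Iso.inv_hom_id]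
  rfl

variable {I : Type u} [SmallCategory I] [IsCofiltered I] {D : I ⥤ Scheme.{u}} {c : Cone D}
  [∀ (i j : I) (f : i ⟶ j), IsAffineHom (D.map f)]

/-- A finitely presented quotient on the limit is the inverse image of one on a stage. -/
theorem exists_quotient (hc : IsLimit c) (i₀ : I) [CompactSpace (D.obj i₀)]
    [QuasiSeparatedSpace (D.obj i₀)] (F₀ : (D.obj i₀).Modules) [F₀.IsQuasicoherent]
    (hF₀ : CohB1.IsFP F₀) {G : c.pt.Modules} [G.IsQuasicoherent] (hG : CohB1.IsFP G)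
    (p : (Scheme.Modules.pullback (c.π.app i₀)).obj F₀ ⟶ G) [Epi p] :
    ∃ (j : I) (φ : j ⟶ i₀) (Gj : (D.obj j).Modules) (_ : Gj.IsQuasicoherent)
      (pj : (Scheme.Modules.pullback (D.map φ)).obj F₀ ⟶ Gj)
      (e : (Scheme.Modules.pullback (c.π.app j)).obj Gj ≅ G),
      CohB1.IsFP Gj ∧ Epi pj ∧
        (tr (c.π.app j) (c.w φ) F₀).inv ≫ (Scheme.Modules.pullback (c.π.app j)).map pj ≫ e.hom = p := by
  haveI : ∀ {i j : I} (f : i ⟶ j), IsAffineHom (D.map f) := fun f => inferInstance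
  obtain ⟨i, ψ, W, _, G', g, hG', ⟨e₀⟩⟩ := FPModel.exists_descend D c hc i₀ G hG
  haveI : G'.IsQuasicoherent := hG'.1
  haveI := QCoh.Pullback.isQCoh_pullback g G'
  let Fi := (Scheme.Modules.pullback g).obj G'
  have hFi : CohB1.IsFP Fi := FlatLimit.isFP_pullback g G' (Lib.ZarCoh.FP.isFP_of_isCoh G' hG')
  haveI : CompactSpace (D.obj i) := QuasiCompact.compactSpace_of_compactSpace (D.map ψ)
  haveI : QuasiSeparatedSpace (D.obj i) := quasiSeparatedSpace_of_quasiSeparated (D.map ψ)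
  let F' := (Scheme.Modules.pullback (D.map ψ)).obj F₀
  haveI : F'.IsQuasicoherent := QCoh.Pullback.isQCoh_pullback _ F₀
  let h := (tr (c.π.app i) (c.w ψ) F₀).hom ≫ p ≫ e₀.inv
  obtain ⟨j, hj, hconj⟩ := Main.exists_conj_eq D c i Fi hc (F := F') (FlatLimit.isFP_pullback _ F₀ hF₀) h
  haveI : CompactSpace (D.obj j.left) := QuasiCompact.compactSpace_of_compactSpace (D.map j.hom)
  haveI := QCoh.Pullback.isQCoh_pullback (D.map j.hom) F'
  haveI := QCoh.Pullback.isQCoh_pullback (D.map j.hom) Fi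
  have hepi : Epi ((Scheme.Modules.pullback (c.π.app j.left)).map hj) := by
    have : Epi (conj F' Fi (c.π.app j.left) (c.w j.hom) hj) := by rw [hconj]; infer_instance
    have e1 : (Scheme.Modules.pullback (c.π.app j.left)).map hj =
        (tr (c.π.app j.left) (c.w j.hom) F').hom ≫ conj F' Fi (c.π.app j.left) (c.w j.hom) hj ≫
          (tr (c.π.app j.left) (c.w j.hom) Fi).inv := by
      simp [conj]
    rw [e1]
    infer_instance
  obtain ⟨k, χ, hχ⟩ := (ModStage.epi_iff j.left hj hc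
    (Cor.isFT_of_isFP (FlatLimit.isFP_pullback _ Fi hFi))).1 hepi
  let φ : k ⟶ i₀ := χ ≫ j.hom ≫ ψ
  have eφ : D.map χ ≫ D.map (j.hom ≫ ψ) = D.map φ := (D.map_comp _ _).symm
  have ejψ : D.map j.hom ≫ D.map ψ = D.map (j.hom ≫ ψ) := (D.map_comp _ _).symm
  let T := (tr (D.map χ) eφ F₀).inv ≫
    (Scheme.Modules.pullback (D.map χ)).map (tr (D.map j.hom) ejψ F₀).inv
  let Gk := (Scheme.Modules.pullback (D.map χ)).obj ((Scheme.Modules.pullback (D.map j.hom)).obj Fi)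
  let pk : (Scheme.Modules.pullback (D.map φ)).obj F₀ ⟶ Gk :=
    T ≫ (Scheme.Modules.pullback (D.map χ)).map hj
  let e : (Scheme.Modules.pullback (c.π.app k)).obj Gk ≅ G :=
    tr (c.π.app k) (c.w χ) _ ≪≫ tr (c.π.app j.left) (c.w j.hom) Fi ≪≫ e₀
  refine ⟨k, φ, Gk, QCoh.Pullback.isQCoh_pullback _ _, pk, e,
    FlatLimit.isFP_pullback _ _ (FlatLimit.isFP_pullback _ Fi hFi), ?_, ?_⟩
  · haveI := hχ
    haveI : IsIso T := by
      simp only [T]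
      infer_instance
    exact epi_comp _ _
  refine hom_ext (c.π.app i₀) fun U m => ?_
  -- the opens over `U` on the stages
  have a1 : c.π.app i₀ ⁻¹ᵁ U ≤ c.π.app i ⁻¹ᵁ (D.map ψ ⁻¹ᵁ U) := by
    rw [← Scheme.Hom.comp_preimage, c.w]
  have a2 : c.π.app i₀ ⁻¹ᵁ U ≤ c.π.app j.left ⁻¹ᵁ (D.map j.hom ⁻¹ᵁ (D.map ψ ⁻¹ᵁ U)) := by
    rw [← Scheme.Hom.comp_preimage, ← Scheme.Hom.comp_preimage, c.w, c.w]
  have a3 : c.π.app i₀ ⁻¹ᵁ U ≤
      c.π.app k ⁻¹ᵁ (D.map χ ⁻¹ᵁ (D.map j.hom ⁻¹ᵁ (D.map ψ ⁻¹ᵁ U))) := by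
    rw [← Scheme.Hom.comp_preimage (c.π.app k), c.w]
    exact a2
  have b1 : D.map χ ⁻¹ᵁ (D.map j.hom ⁻¹ᵁ (D.map ψ ⁻¹ᵁ U)) ≤ D.map φ ⁻¹ᵁ U := by
    rw [← eφ, ← ejψ]; rfl
  have b2 : D.map j.hom ⁻¹ᵁ (D.map ψ ⁻¹ᵁ U) ≤ D.map (j.hom ≫ ψ) ⁻¹ᵁ U := by
    rw [← ejψ]; rfl
  set x := pbRes (D.map j.hom) F' (le_refl _) (pbRes (D.map ψ) F₀ (le_refl (D.map ψ ⁻¹ᵁ U)) m) with hx
  -- the right hand side
  have hh : h.app (c.π.app i₀ ⁻¹ᵁ U) (pbRes (c.π.app i) F' a1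
      (pbRes (D.map ψ) F₀ le_rfl m)) = e₀.inv.app _ (p.app _ (pbRes (c.π.app i₀) F₀ le_rfl m)) := by
    simp only [h, Scheme.Modules.Hom.comp_app, ConcreteCategory.comp_apply]
    rw [tr_hom_pbRes]
  rw [← hconj] at hh
  simp only [conj, Scheme.Modules.Hom.comp_app, ConcreteCategory.comp_apply] at hh
  rw [tr_inv_pbRes (c.π.app j.left) _ F' (le_refl _) a2, pbRes_natural] at hh
  -- the left hand side
  show (((tr (c.π.app k) (c.w φ) F₀).inv ≫ (Scheme.Modules.pullback (c.π.app k)).map pk ≫ e.hom).app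
    (c.π.app i₀ ⁻¹ᵁ U)) _ = _
  simp only [Scheme.Modules.Hom.comp_app, ConcreteCategory.comp_apply, e, Iso.trans_hom]
  rw [tr_inv_pbRes (c.π.app k) _ F₀ b1 a3, pbRes_natural]
  simp only [pk, T, Scheme.Modules.Hom.comp_app, ConcreteCategory.comp_apply]
  rw [tr_inv_pbRes (D.map χ) eφ F₀ b2 le_rfl, pbRes_natural,
    tr_inv_pbRes (D.map j.hom) ejψ F₀ (le_refl (D.map ψ ⁻¹ᵁ U)) le_rfl, pbRes_natural,
    tr_hom_pbRes (c.π.app k) (c.w χ) _ (le_refl _) a3 a2]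
  refine (congrArg (e₀.hom.app _) hh).trans ?_
  rw [← ConcreteCategory.comp_apply, ← Scheme.Modules.Hom.comp_app, Iso.inv_hom_id]
  rfl

end Groth.Agent.H69.HomStage.Quot
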