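import Groth.Agent.H69.HomStage.Push
import Groth.Agent.Lib.Lim.IdealDescend
import Groth.Agent.Lib.Flat55.StageSystem
import Groth.Agent.Lib.Flat55.EventualTensor

/-!
# Sections of inverse images of a quasi-coherent module along a limit of schemes
-/

set_option autoImplicit false
set_option linter.style.haveILetI false
set_option linter.unusedSectionVars false
set_option backward.isDefEq.respectTransparency false
universe u

open CategoryTheory CategoryTheory.Limits AlgebraicGeometry Opposite TopologicalSpace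
open Groth.Agent.Lib Groth.Agent.Lib.Lim ZarCoh.FlatBC.PullbackSections Groth.Agent.Lib.DescAlg.PbSec
open scoped TensorProduct

namespace Groth.Agent.H69.HomStage.Sec

theorem appLE_eq_of_eq {X Y : Scheme.{u}} {f g : X ⟶ Y} (h : f = g) {U : Y.Opens} {V : X.Opens}
    (e : V ≤ f ⁻¹ᵁ U) : f.appLE U V e = g.appLE U V (h ▸ e) := by
  subst h; rfl

theorem one_tmul_eq_zero {S A B : Type u} [CommRing S] [CommRing A] [CommRing B] [Algebra S A]
    [Algebra S B] {N : Type u} [AddCommGroup N] [Module S N] (ψ : A →ₐ[S] B) (t : N)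
    (h : (1 : A) ⊗ₜ[S] t = 0) : (1 : B) ⊗ₜ[S] t = 0 := by
  have := congrArg (ψ.toLinearMap.rTensor N) h
  simpa using this

variable {I : Type u} [SmallCategory I] [IsCofiltered I] (D : I ⥤ Scheme.{u}) (c : Cone D)
  [∀ {i j : I} (f : i ⟶ j), IsAffineHom (D.map f)]

/-- A section killed in the limit is killed at a stage. -/
theorem exists_pbRes_eq_zero (hc : IsLimit c) {j : I} (M : (D.obj j).Modules) [M.IsQuasicoherent]
    {V : (D.obj j).Opens} (hV : IsAffineOpen V) (t : Γ(M, V))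
    (h : pbRes (c.π.app j) M (le_refl (c.π.app j ⁻¹ᵁ V)) t = 0) :
    ∃ (k : I) (φ : k ⟶ j), pbRes (D.map φ) M (le_refl (D.map φ ⁻¹ᵁ V)) t = 0 := by
  let E := opensDiagram D j V
  let e := opensCone D c j V
  have he : IsLimit e := isLimitOpensCone D c hc j V
  haveI hEa : ∀ k, IsAffine (E.obj k) := fun k => hV.preimage (D.map k.hom)
  let i : Over j := Over.mk (𝟙 j)
  let g : Γ(D.obj j, V) →+* Γ(E.obj i, ⊤) :=
    ((D.map i.hom).appLE V (D.map i.hom ⁻¹ᵁ V) le_rfl ≫ (D.map i.hom ⁻¹ᵁ V).topIso.inv).hom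
  -- the structure maps of the two systems of rings agree
  have hst : ∀ (k : Over j) (φ : k ⟶ i) (r : Γ(D.obj j, V)),
      (D.map k.hom ⁻¹ᵁ V).topIso.hom ((E.map φ).appTop (g r)) =
        (D.map k.hom).appLE V (D.map k.hom ⁻¹ᵁ V) le_rfl r := by
    intro k φ r
    have e1 : D.map φ.left ≫ D.map i.hom = D.map k.hom := by rw [← D.map_comp, Over.w]
    have hle : D.map k.hom ⁻¹ᵁ V ≤ D.map φ.left ⁻¹ᵁ (D.map i.hom ⁻¹ᵁ V) := by
      rw [← Scheme.Hom.comp_preimage, e1]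
    show (D.map k.hom ⁻¹ᵁ V).topIso.hom (((D.map φ.left).resLE _ _ hle).app ⊤ (g r)) = _
    rw [Scheme.Hom.resLE_app_top]
    simp only [ConcreteCategory.comp_apply]
    refine (CategoryTheory.Iso.inv_hom_id_apply (D.map k.hom ⁻¹ᵁ V).topIso _).trans ?_
    show (D.map φ.left).appLE _ _ hle ((D.map i.hom ⁻¹ᵁ V).topIso.hom ((D.map i.hom ⁻¹ᵁ V).topIso.inv
      ((D.map i.hom).appLE V (D.map i.hom ⁻¹ᵁ V) le_rfl r))) = _
    rw [CategoryTheory.Iso.inv_hom_id_apply, ← ConcreteCategory.comp_apply,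
      Scheme.Hom.appLE_comp_appLE]
    exact congr($(appLE_eq_of_eq e1 _) r)
  have hlim : ∀ r : Γ(D.obj j, V), (c.π.app j ⁻¹ᵁ V).topIso.hom ((e.π.app i).appTop (g r)) =
      (c.π.app j).appLE V (c.π.app j ⁻¹ᵁ V) le_rfl r := by
    intro r
    have e1 : c.π.app i.left ≫ D.map i.hom = c.π.app j := c.w i.hom
    have hle : c.π.app j ⁻¹ᵁ V ≤ c.π.app i.left ⁻¹ᵁ (D.map i.hom ⁻¹ᵁ V) := by
      rw [← Scheme.Hom.comp_preimage, e1]
    show (c.π.app j ⁻¹ᵁ V).topIso.hom (((c.π.app i.left).resLE _ _ hle).app ⊤ (g r)) = _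
    rw [Scheme.Hom.resLE_app_top]
    simp only [ConcreteCategory.comp_apply]
    refine (CategoryTheory.Iso.inv_hom_id_apply (c.π.app j ⁻¹ᵁ V).topIso _).trans ?_
    show (c.π.app i.left).appLE _ _ hle ((D.map i.hom ⁻¹ᵁ V).topIso.hom ((D.map i.hom ⁻¹ᵁ V).topIso.inv
      ((D.map i.hom).appLE V (D.map i.hom ⁻¹ᵁ V) le_rfl r))) = _
    rw [CategoryTheory.Iso.inv_hom_id_apply, ← ConcreteCategory.comp_apply,
      Scheme.Hom.appLE_comp_appLE]
    exact congr($(appLE_eq_of_eq e1 _) r)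
  let Q : ∀ (A : Type u) [CommRing A] [Algebra Γ(E.obj i, ⊤) A], Prop := fun A _ _ =>
    letI : Algebra Γ(D.obj j, V) A := ((algebraMap Γ(E.obj i, ⊤) A).comp g).toAlgebra
    ((1 : A) ⊗ₜ[Γ(D.obj j, V)] t) = 0
  have hQ : @Q Γ(e.pt, ⊤) inferInstance (e.π.app i).appTop.hom.toAlgebra := by
    letI : Algebra Γ(E.obj i, ⊤) Γ(e.pt, ⊤) := (e.π.app i).appTop.hom.toAlgebra
    letI : Algebra Γ(D.obj j, V) Γ(e.pt, ⊤) :=
      ((algebraMap Γ(E.obj i, ⊤) Γ(e.pt, ⊤)).comp g).toAlgebra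
    letI : Algebra Γ(D.obj j, V) Γ(c.pt, c.π.app j ⁻¹ᵁ V) :=
      ((c.π.app j).appLE V (c.π.app j ⁻¹ᵁ V) le_rfl).hom.toAlgebra
    haveI := Basic.isAffineHom_π hc j
    have h1 : ((1 : Γ(c.pt, c.π.app j ⁻¹ᵁ V)) ⊗ₜ[Γ(D.obj j, V)] t) = 0 := by
      refine (bijective_pbTensor (c.π.app j) M hV (hV.preimage _) le_rfl).1 ?_
      rw [map_zero, pbTensor_tmul, one_smul, h]
    let ψ : Γ(c.pt, c.π.app j ⁻¹ᵁ V) →ₐ[Γ(D.obj j, V)] Γ(e.pt, ⊤) :=
      { toRingHom := (c.π.app j ⁻¹ᵁ V).topIso.inv.hom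
        commutes' := fun r => by
          show (c.π.app j ⁻¹ᵁ V).topIso.inv ((c.π.app j).appLE V (c.π.app j ⁻¹ᵁ V) le_rfl r) =
            (e.π.app i).appTop (g r)
          rw [← hlim]
          exact CategoryTheory.Iso.hom_inv_id_apply (c.π.app j ⁻¹ᵁ V).topIso _ }
    exact one_tmul_eq_zero ψ t h1
  obtain ⟨k, φ, hk⟩ := Flat55.StageSystem.exists_stage (D := E) e he i Q
    (fun {ι} _ G _ _ gg A _ _ _ _ hsys hA => by
      letI : ∀ a, Algebra Γ(D.obj j, V) (G a) := fun a =>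
        ((algebraMap Γ(E.obj i, ⊤) (G a)).comp g).toAlgebra
      letI : Algebra Γ(D.obj j, V) A := ((algebraMap Γ(E.obj i, ⊤) A).comp g).toAlgebra
      haveI : ∀ a, IsScalarTower Γ(D.obj j, V) (G a) A := fun a =>
        IsScalarTower.of_algebraMap_eq fun r =>
          IsScalarTower.algebraMap_apply Γ(E.obj i, ⊤) (G a) A (g r)
      let gg' : ∀ a b, a ≤ b → G a →ₐ[Γ(D.obj j, V)] G b := fun a b hab =>
        { (gg a b hab).toRingHom with commutes' := fun r => (gg a b hab).commutes (g r) }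
      obtain ⟨a⟩ := hsys.2.1
      obtain ⟨b, hab, hb⟩ := Flat55.EventualTensor.exists_rTensor_eq_zero (g := gg') hsys Γ(M, V)
        ((1 : G a) ⊗ₜ[Γ(D.obj j, V)] t) (by
          rw [LinearMap.rTensor_tmul]
          show (algebraMap (G a) A 1) ⊗ₜ[Γ(D.obj j, V)] t = 0
          rw [map_one]
          exact hA)
      refine ⟨b, ?_⟩
      rw [LinearMap.rTensor_tmul, AlgHom.toLinearMap_apply, map_one] at hb
      exact hb) hQ
  refine ⟨k.left, k.hom, ?_⟩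
  letI : Algebra Γ(E.obj i, ⊤) Γ(E.obj k, ⊤) := (E.map φ).appTop.hom.toAlgebra
  letI : Algebra Γ(D.obj j, V) Γ(E.obj k, ⊤) :=
    ((algebraMap Γ(E.obj i, ⊤) Γ(E.obj k, ⊤)).comp g).toAlgebra
  letI := ((D.map k.hom).appLE V (D.map k.hom ⁻¹ᵁ V) le_rfl).hom.toAlgebra
  let ψ : Γ(E.obj k, ⊤) →ₐ[Γ(D.obj j, V)] Γ(D.obj k.left, D.map k.hom ⁻¹ᵁ V) :=
    { toRingHom := (D.map k.hom ⁻¹ᵁ V).topIso.hom.hom
      commutes' := fun r => hst k φ r }
  have h2 := congrArg (pbTensor (D.map k.hom) M le_rfl) (one_tmul_eq_zero ψ t hk)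
  rw [map_zero, pbTensor_tmul, one_smul] at h2
  exact h2

variable (i₀ : I) (G : (D.obj i₀).Modules) [G.IsQuasicoherent]

lemma le_preimage (U : (D.obj i₀).Opens) {j k : Over i₀} (f : k ⟶ j) :
    D.map k.hom ⁻¹ᵁ U ≤ D.map f.left ⁻¹ᵁ (D.map j.hom ⁻¹ᵁ U) := by
  rw [← Scheme.Hom.comp_preimage, ← D.map_comp, Over.w]

/-- Every section over the preimage of an affine open comes from a stage. -/
theorem exists_R_eq (hc : IsLimit c) {U : (D.obj i₀).Opens} (hU : IsAffineOpen U)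
    (s : Γ((Scheme.Modules.pullback (c.π.app i₀)).obj G, c.π.app i₀ ⁻¹ᵁ U)) :
    ∃ (j : Over i₀) (t : Γ((Scheme.Modules.pullback (D.map j.hom)).obj G, D.map j.hom ⁻¹ᵁ U)),
      R (c.π.app j.left) (c.w j.hom) G (IdealDescend.preimage_le D c i₀ U j) t = s := by
  letI := ((c.π.app i₀).appLE U (c.π.app i₀ ⁻¹ᵁ U) le_rfl).hom.toAlgebra
  haveI := Basic.isAffineHom_π hc i₀
  obtain ⟨z, rfl⟩ := (bijective_pbTensor (c.π.app i₀) G hU (hU.preimage _) le_rfl).2 s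
  induction z with
  | zero => exact ⟨Over.mk (𝟙 i₀), 0, by rw [map_zero, map_zero]⟩
  | tmul a m =>
    obtain ⟨j, t, ht⟩ := IdealDescend.exists_section_eq D c hc i₀ U hU a
    refine ⟨j, t • pbRes (D.map j.hom) G le_rfl m, ?_⟩
    rw [R_smul, ht, R_pbRes, pbTensor_tmul]
  | add x y hx hy =>
    obtain ⟨j₁, t₁, h₁⟩ := hx
    obtain ⟨j₂, t₂, h₂⟩ := hy
    obtain ⟨k, f₁, f₂, -⟩ : ∃ (k : Over i₀) (_ : k ⟶ j₁) (_ : k ⟶ j₂), True :=
      ⟨IsCofiltered.min j₁ j₂, IsCofiltered.minToLeft j₁ j₂, IsCofiltered.minToRight j₁ j₂, trivial⟩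
    have hw : ∀ {j' : Over i₀} (f : k ⟶ j'), D.map f.left ≫ D.map j'.hom = D.map k.hom := fun f => by
      rw [← D.map_comp, Over.w]
    refine ⟨k, R (D.map f₁.left) (hw f₁) G (le_preimage D i₀ U f₁) t₁ +
      R (D.map f₂.left) (hw f₂) G (le_preimage D i₀ U f₂) t₂, ?_⟩
    rw [map_add, map_add]
    congr 1
    · exact (R_comp (D.map f₁.left) (c.π.app k.left) (c.π.app j₁.left) (hw f₁) (c.w k.hom) (c.w f₁.left) G
        _ _ t₁).trans h₁
    · exact (R_comp (D.map f₂.left) (c.π.app k.left) (c.π.app j₂.left) (hw f₂) (c.w k.hom) (c.w f₂.left) G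
        _ _ t₂).trans h₂

/-- A section killed in the limit is killed at a stage. -/
theorem exists_R_eq_zero (hc : IsLimit c) {U : (D.obj i₀).Opens} (hU : IsAffineOpen U) (j : Over i₀)
    (t : Γ((Scheme.Modules.pullback (D.map j.hom)).obj G, D.map j.hom ⁻¹ᵁ U))
    (h : R (c.π.app j.left) (c.w j.hom) G (IdealDescend.preimage_le D c i₀ U j) t = 0) :
    ∃ (k : Over i₀) (f : k ⟶ j),
      R (D.map f.left) (by rw [← D.map_comp, Over.w]) G (le_preimage D i₀ U f) t = 0 := by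
  haveI := QCoh.Pullback.isQCoh_pullback (D.map j.hom) G
  have hpre : c.π.app i₀ ⁻¹ᵁ U = c.π.app j.left ⁻¹ᵁ (D.map j.hom ⁻¹ᵁ U) := by
    rw [← Scheme.Hom.comp_preimage, c.w]
  have h' : R (c.π.app j.left) (c.w j.hom) G (le_refl (c.π.app j.left ⁻¹ᵁ (D.map j.hom ⁻¹ᵁ U))) t = 0 := by
    have := congrArg (((Scheme.Modules.pullback (c.π.app i₀)).obj G).presheaf.map (homOfLE hpre.ge).op) h
    rw [map_R, map_zero] at this
    exact this
  obtain ⟨k, φ, hk⟩ := exists_pbRes_eq_zero D c hc ((Scheme.Modules.pullback (D.map j.hom)).obj G)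
    (hU.preimage (D.map j.hom)) t (by
      rw [R_eq] at h'
      refine (ConcreteCategory.bijective_of_isIso
        ((tr (c.π.app j.left) (c.w j.hom) G).hom.app
          (c.π.app j.left ⁻¹ᵁ (D.map j.hom ⁻¹ᵁ U)))).1 ?_
      rw [h', map_zero])
  let f : Over.mk (φ ≫ j.hom) ⟶ j := Over.homMk φ rfl
  refine ⟨_, f, ?_⟩
  have e1 : D.map (φ ≫ j.hom) ⁻¹ᵁ U ≤ D.map φ ⁻¹ᵁ (D.map j.hom ⁻¹ᵁ U) := le_preimage D i₀ U f
  show R (D.map φ) _ G e1 t = 0
  have hk' : pbRes (D.map φ) ((Scheme.Modules.pullback (D.map j.hom)).obj G) e1 t = 0 := by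
    rw [← map_pbRes (D.map φ) _ (le_refl (D.map φ ⁻¹ᵁ (D.map j.hom ⁻¹ᵁ U))) e1, hk, map_zero]
  rw [R_eq, hk', map_zero]

end Groth.Agent.H69.HomStage.Sec
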